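import Cfsg.Agent.Lib.FPFThompson.Main

/-!
# Splitting automorphisms: the norm identity

`H` a subgroup of `G` such that all elements outside `H` have order dividing `p`.  Then
`centralizes`: a subgroup `S ≤ H` normalized by an element `a ∉ H` centralizes any `r`-subgroup
`T ≤ H` normalized by `S` and `a` when the order of `S` is prime to `r`.
-/

set_option autoImplicit false

namespace Cfsg.Agent.Lib.Kegel.Core

open Cfsg Cfsg.Agent.Lib.Core.Basic
open scoped commutatorElement

universe u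

section Norm

variable {Γ V : Type*} [Group Γ] [CommGroup V]

/-- The elements `a⁻ⁱ (a y)ⁱ` stay in `S`. -/
theorem inv_pow_mul_pow_mem (a : Γ) (S : Subgroup Γ) (haS : a ∈ Subgroup.normalizer (S : Set Γ))
    {y : Γ} (hy : y ∈ S) (i : ℕ) : (a ^ i)⁻¹ * (a * y) ^ i ∈ S := by
  induction i with
  | zero => simp
  | succ i ih =>
    have h1 : (a ^ (i + 1))⁻¹ * (a * y) ^ (i + 1) = a⁻¹ * ((a ^ i)⁻¹ * (a * y) ^ i) * a * y := by
      rw [pow_succ a, pow_succ (a * y)]
      group
    rw [h1]
    refine S.mul_mem ?_ hy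
    have h2 := (Subgroup.mem_normalizer_iff.1 (Subgroup.inv_mem _ haS)) _ |>.1 ih
    simpa using h2

theorem pow_inj_of_coprime {p i : ℕ} (hp : p.Prime) (hi : i.Coprime p) {x y : Γ} (hx : x ^ p = 1)
    (hy : y ^ p = 1) (h : x ^ i = y ^ i) : x = y := by
  obtain ⟨j, -, hj⟩ := Nat.exists_mul_mod_eq_one_of_coprime hi hp.one_lt
  have hx' : x = (x ^ i) ^ j := by
    rw [← pow_mul, pow_eq_pow_mod _ hx, hj, pow_one]
  have hy' : y = (y ^ i) ^ j := by
    rw [← pow_mul, pow_eq_pow_mod _ hy, hj, pow_one]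
  rw [hx', hy', h]

/-- The norm identity. -/
theorem core (ρ : Γ →* MulAut V) {p : ℕ} (hp : p.Prime) (a : Γ) (S : Subgroup Γ) [Finite S]
    (haS : a ∈ Subgroup.normalizer (S : Set Γ))
    (hord : ∀ y ∈ S, (a * y) ^ p = 1)
    (hN : ∀ y ∈ S, ∀ v : V, ∏ i ∈ Finset.range p, ρ ((a * y) ^ i) v = 1) (v : V) :
    ∀ s ∈ S, ρ s (v ^ Nat.card S) = v ^ Nat.card S := by
  classical
  haveI := Fintype.ofFinite S
  let n : V := ∏ y : S, ρ (y : Γ) v
  have hfix : ∀ s ∈ S, ρ s n = n := by
    intro s hs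
    simp only [n, map_prod]
    refine Fintype.prod_equiv (Equiv.mulLeft (⟨s, hs⟩ : S)) _ _ ?_
    intro y
    simp [map_mul]
  have hfixa : ∀ (j : ℕ), ∀ s ∈ S, ρ s (ρ (a ^ j) n) = ρ (a ^ j) n := by
    intro j s hs
    have hmem : (a ^ j)⁻¹ * s * (a ^ j) ∈ S := by
      have h1 : (a ^ j)⁻¹ ∈ Subgroup.normalizer (S : Set Γ) :=
        Subgroup.inv_mem _ (Subgroup.pow_mem _ haS j)
      have h2 := (Subgroup.mem_normalizer_iff.1 h1 s).1 hs
      simpa using h2
    have h3 : s * a ^ j = a ^ j * ((a ^ j)⁻¹ * s * a ^ j) := by group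
    have h4 : ρ s (ρ (a ^ j) n) = ρ (s * a ^ j) n := by simp [map_mul]
    rw [h4, h3, map_mul, MulAut.mul_apply, hfix _ hmem]
  -- the reindexing
  have hre : ∀ i : ℕ, i.Coprime p → ∏ y : S, ρ ((a * (y : Γ)) ^ i) v = ρ (a ^ i) n := by
    intro i hi
    let f : S → S := fun y => ⟨(a ^ i)⁻¹ * (a * (y : Γ)) ^ i, inv_pow_mul_pow_mem a S haS y.2 i⟩
    have hf : Function.Injective f := by
      intro y y' h
      have h1 : (a ^ i)⁻¹ * (a * (y : Γ)) ^ i = (a ^ i)⁻¹ * (a * (y' : Γ)) ^ i :=
        congrArg Subtype.val h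
      have h2 := mul_left_cancel h1
      have h3 := pow_inj_of_coprime hp hi (hord _ y.2) (hord _ y'.2) h2
      exact Subtype.ext (mul_left_cancel h3)
    have hfb : Function.Bijective f := Finite.injective_iff_bijective.1 hf
    simp only [n, map_prod]
    refine Fintype.prod_bijective f hfb _ _ ?_
    intro y
    simp only [f]
    rw [← MulAut.mul_apply, ← map_mul]
    congr 2
    group
  -- the double product
  have h1 : ∏ i ∈ Finset.range p, ∏ y : S, ρ ((a * (y : Γ)) ^ i) v = 1 := by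
    rw [Finset.prod_comm]
    exact Finset.prod_eq_one (fun y _ => hN y y.2 v)
  obtain ⟨m, rfl⟩ : ∃ m, p = m + 1 := ⟨p - 1, by have := hp.pos; omega⟩
  rw [Finset.prod_range_succ'] at h1
  have h0 : ∏ y : S, ρ ((a * (y : Γ)) ^ 0) v = v ^ Nat.card S := by
    simp [Nat.card_eq_fintype_card]
  rw [h0] at h1
  have h2 : ∏ i ∈ Finset.range m, ∏ y : S, ρ ((a * (y : Γ)) ^ (i + 1)) v =
      ∏ i ∈ Finset.range m, ρ (a ^ (i + 1)) n := by
    refine Finset.prod_congr rfl ?_
    intro i hi
    apply hre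
    have hlt : i + 1 < m + 1 := by
      have := Finset.mem_range.1 hi
      omega
    exact (Nat.coprime_of_lt_prime (by omega) hlt hp).symm
  rw [h2] at h1
  have h3 : v ^ Nat.card S = (∏ i ∈ Finset.range m, ρ (a ^ (i + 1)) n)⁻¹ := by
    exact eq_inv_of_mul_eq_one_right h1
  intro s hs
  rw [h3, map_inv, map_prod]
  congr 1
  exact Finset.prod_congr rfl (fun i _ => hfixa (i + 1) s hs)

/-- The norm formula for `(v c)ⁿ`. -/
theorem mul_pow_eq {G : Type*} [Group G] (W : Subgroup G) [hW : W.Normal]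
    (hc : ∀ x y : W, x * y = y * x) (c : G) (v : W) (n : ℕ) :
    letI : CommGroup W := { (inferInstance : Group W) with mul_comm := hc }
    ((v : G) * c) ^ n = ((∏ i ∈ Finset.range n, MulAut.conjNormal (c ^ i) v : W) : G) * c ^ n := by
  letI : CommGroup W := { (inferInstance : Group W) with mul_comm := hc }
  induction n with
  | zero => simp
  | succ n ih =>
    rw [pow_succ, ih, Finset.prod_range_succ, Subgroup.coe_mul, MulAut.conjNormal_apply]
    group

end Norm

section Main

variable {G : Type u} [Group G] [Finite G]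

/-- The main consequence, for a normal subgroup `T`. -/
theorem centralizes_of_normal {p r : ℕ} [hp : Fact p.Prime] [hr : Fact r.Prime] (M : Subgroup G)
    (hM : ∀ g, g ∉ M → g ^ p = 1) (T S : Subgroup G) [hTn : T.Normal] (a : G) (ha : a ∉ M)
    (hSM : S ≤ M) (hTM : T ≤ M) (haS : a ∈ Subgroup.normalizer (S : Set G)) (hT : IsPGroup r T)
    (hcop : (Nat.card S).Coprime r) : S ≤ Subgroup.centralizer (T : Set G) := by
  classical
  let W : Subgroup G := (frattini T).map T.subtype
  haveI hWn : W.Normal :=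
    Cfsg.Agent.Lib.Transfer.Basic.map_subtype_normal_of_characteristic T (frattini T)
  have hcommR : ∀ x ∈ T, ∀ y ∈ T, ⁅x, y⁆ ∈ W := by
    intro x hx y hy
    have h1 := (Cfsg.Agent.S0012.result r hT).1
    have h2 : ⁅(⟨x, hx⟩ : T), (⟨y, hy⟩ : T)⁆ ∈ commutator T :=
      Subgroup.commutator_mem_commutator (Subgroup.mem_top _) (Subgroup.mem_top _)
    exact ⟨_, h1 h2, rfl⟩
  let π : G →* G ⧸ W := QuotientGroup.mk' W
  have hπ : Function.Surjective π := QuotientGroup.mk'_surjective _
  haveI hV : (T.map π).Normal := hTn.map π hπ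
  have hc : ∀ x y : T.map π, x * y = y * x := by
    rintro ⟨_, x, hx, rfl⟩ ⟨_, y, hy, rfl⟩
    apply Subtype.ext
    have h1 : π ⁅x, y⁆ = 1 := (QuotientGroup.eq_one_iff _).2 (hcommR x hx y hy)
    rw [map_commutatorElement, commutatorElement_eq_one_iff_mul_comm] at h1
    exact h1
  letI : CommGroup (T.map π) := { (inferInstance : Group (T.map π)) with mul_comm := hc }
  have hVp : IsPGroup r (T.map π) := hT.map π
  have hkey := core (V := T.map π) (MulAut.conjNormal : (G ⧸ W) →* MulAut (T.map π)) hp.out (π a)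
    (S.map π) (by
      exact Subgroup.le_normalizer_map π ⟨a, haS, rfl⟩)
    (by
      rintro _ ⟨y, hy, rfl⟩
      rw [← map_mul, ← map_pow, hM _ (fun h => ha (by simpa using M.mul_mem h (M.inv_mem (hSM hy)))),
        map_one])
    (by
      rintro _ ⟨y, hy, rfl⟩ ⟨_, t, ht, rfl⟩
      apply Subtype.ext
      have hb : a * y ∉ M := fun h => ha (by simpa using M.mul_mem h (M.inv_mem (hSM hy)))
      have hb1 := hM _ hb
      have hb2 := hM (t * (a * y)) (fun h => hb (by simpa using M.mul_mem (M.inv_mem (hTM ht)) h))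
      have h3 := mul_pow_eq (T.map π) hc (π (a * y)) ⟨π t, t, ht, rfl⟩ p
      have h4 : (π t * π (a * y)) ^ p = 1 := by
        rw [← map_mul, ← map_pow, hb2, map_one]
      have h5 : π (a * y) ^ p = 1 := by
        rw [← map_pow, hb1, map_one]
      simp only [h4, h5, mul_one] at h3
      rw [map_mul] at h3
      exact h3.symm)
  -- from the powers to the elements
  have hcopS : (Nat.card (S.map π)).Coprime r :=
    Nat.Coprime.coprime_dvd_left (Subgroup.card_map_dvd S π) hcop
  have hinj : Function.Injective (fun v : T.map π => v ^ Nat.card (S.map π)) :=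
    (hVp.powEquiv hcopS.symm).injective
  have hfr : (Nat.card S).Coprime (Nat.card (frattini T)) := by
    obtain ⟨k, hk⟩ := (IsPGroup.iff_card).1 (hT.to_subgroup (frattini T))
    rw [hk]
    exact Nat.Coprime.pow_right k hcop
  apply Cfsg.Agent.S0029.result S T Subgroup.le_normalizer_of_normal hfr
  intro s hs k hk
  have h1 := hkey ⟨π k, k, hk, rfl⟩ (π s) ⟨s, hs, rfl⟩
  rw [map_pow] at h1
  have h2 := hinj h1
  have h3 : π s * π k * (π s)⁻¹ = π k := by
    have := congrArg Subtype.val h2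
    simpa only [MulAut.conjNormal_apply] using this
  have h4 : π (s * k * s⁻¹ * k⁻¹) = 1 := by
    simp only [map_mul, map_inv]
    rw [h3]
    simp
  exact (QuotientGroup.eq_one_iff _).1 h4

end Main

end Cfsg.Agent.Lib.Kegel.Core
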