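import Cfsg.Agent.Lib.Kegel.Core
import Cfsg.Agent.S0108

/-!
# Kegel's theorem on the Hughes subgroup

If `H` is a proper normal subgroup of a finite group `G` such that every element outside `H` has
order dividing the prime `p`, then `H` is nilpotent; and if `G` is no `p`-group, `H` has index `p`.
-/

set_option autoImplicit false

namespace Cfsg.Agent.Lib.Kegel.Main

open Cfsg Cfsg.Agent.Lib.Core.Basic Cfsg.Agent.Lib.FPFThompson.Main Cfsg.Agent.Lib.Kegel.Core

universe u

/-- Thompson's normal `p`-complement criterion. -/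
theorem thompsonCrit : ThompsonCrit.{u} := by
  intro G _ _ q _ hq P h1 h2
  exact (Cfsg.Agent.S0108.result hq P).2 ⟨h1, h2⟩

section Aux

variable {G : Type u} [Group G] [Finite G]

/-- Theorem U for a subgroup `T` not assumed normal. -/
theorem centralizes {p r : ℕ} [Fact p.Prime] [Fact r.Prime] (M : Subgroup G)
    (hM : ∀ g, g ∉ M → g ^ p = 1) (T S : Subgroup G) (a : G) (ha : a ∉ M)
    (hSM : S ≤ M) (hTM : T ≤ M) (haS : a ∈ Subgroup.normalizer (S : Set G))
    (haT : a ∈ Subgroup.normalizer (T : Set G))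
    (hST : S ≤ Subgroup.normalizer (T : Set G)) (hT : IsPGroup r T)
    (hcop : (Nat.card S).Coprime r) : S ≤ Subgroup.centralizer (T : Set G) := by
  classical
  let N : Subgroup G := Subgroup.normalizer (T : Set G)
  haveI hTn : (T.subgroupOf N).Normal := Subgroup.normal_in_normalizer
  have hTN : T ≤ N := Subgroup.le_normalizer
  have key := centralizes_of_normal (G := N) (p := p) (r := r) (M.subgroupOf N)
    (fun g hg => Subtype.ext (by
      have := hM g (fun h => hg (Subgroup.mem_subgroupOf.2 h))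
      simpa using this))
    (T.subgroupOf N) (S.subgroupOf N) ⟨a, haT⟩
    (fun h => ha (Subgroup.mem_subgroupOf.1 h))
    (fun x hx => Subgroup.mem_subgroupOf.2 (hSM (Subgroup.mem_subgroupOf.1 hx)))
    (fun x hx => Subgroup.mem_subgroupOf.2 (hTM (Subgroup.mem_subgroupOf.1 hx)))
    (by
      rw [Subgroup.mem_normalizer_iff]
      intro h
      simp only [Subgroup.mem_subgroupOf, Subgroup.coe_mul, InvMemClass.coe_inv]
      exact (Subgroup.mem_normalizer_iff.1 haS) h)
    (hT.of_injective (Subgroup.subgroupOfEquivOfLe hTN).toMonoidHom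
      (Subgroup.subgroupOfEquivOfLe hTN).injective)
    (by
      have : Nat.card (S.subgroupOf N) = Nat.card S :=
        Nat.card_congr (Subgroup.subgroupOfEquivOfLe hST).toEquiv
      rwa [this])
  intro s hs
  rw [Subgroup.mem_centralizer_iff]
  intro t ht
  have h1 := key (x := ⟨s, hST hs⟩) (Subgroup.mem_subgroupOf.2 hs)
  have h2 := Subgroup.mem_centralizer_iff.1 h1 ⟨t, hTN ht⟩ (Subgroup.mem_subgroupOf.2 ht)
  exact congrArg Subtype.val h2

/-- Frattini: some element outside `H` normalizes a given Sylow subgroup of `H`. -/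
theorem exists_normalizing {q : ℕ} [Fact q.Prime] (H : Subgroup G) [H.Normal] (hne : H ≠ ⊤)
    (Q : Sylow q H) : ∃ a, a ∉ H ∧ a ∈ Subgroup.normalizer
      (((Q : Subgroup H).map H.subtype : Subgroup G) : Set G) := by
  by_contra hcon
  push Not at hcon
  apply hne
  have h := Sylow.normalizer_sup_eq_top (N := H) Q
  have hle : Subgroup.normalizer (((Q : Subgroup H).map H.subtype : Subgroup G) : Set G) ≤ H :=
    fun x hx => by_contra fun h' => hcon x h' hx
  rwa [sup_of_le_right hle] at h

/-- Sylow subgroups for other primes centralize the `r`-core. -/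
theorem le_centralizer_pCore {p r s : ℕ} [Fact p.Prime] [hr : Fact r.Prime] [hs : Fact s.Prime]
    (hrs : r ≠ s) (H : Subgroup G) [hHn : H.Normal] (hne : H ≠ ⊤) (hH : ∀ g, g ∉ H → g ^ p = 1)
    (Q : Sylow s H) : (Q : Subgroup H) ≤ Subgroup.centralizer (pCore r H : Set H) := by
  obtain ⟨a, ha, haQ⟩ := exists_normalizing H hne Q
  haveI : (pCore r H).Characteristic := pCore_characteristic
  let T : Subgroup G := (pCore r H).map H.subtype
  let S : Subgroup G := (Q : Subgroup H).map H.subtype
  haveI hTn : T.Normal :=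
    Cfsg.Agent.Lib.Transfer.Basic.map_subtype_normal_of_characteristic H (pCore r H)
  have hTp : IsPGroup r T := (pCore_isPGroup (p := r) (G := H)).map H.subtype
  have hSp : IsPGroup s S := Q.isPGroup'.map H.subtype
  have hcop : (Nat.card S).Coprime r := by
    obtain ⟨k, hk⟩ := (IsPGroup.iff_card).1 hSp
    rw [hk]
    exact Nat.Coprime.pow_left k ((Nat.coprime_primes hs.out hr.out).2 hrs.symm)
  have key := centralizes_of_normal (p := p) (r := r) H hH T S a ha
    (Subgroup.map_subtype_le _) (Subgroup.map_subtype_le _) haQ hTp hcop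
  intro x hx
  rw [Subgroup.mem_centralizer_iff]
  intro y hy
  have h1 := Subgroup.mem_centralizer_iff.1 (key ⟨x, hx, rfl⟩) y ⟨y, hy, rfl⟩
  exact Subtype.ext h1

/-- An element of prime order outside `H`: its powers meet `H` trivially. -/
theorem eq_one_of_mem_zpowers {p : ℕ} (hp : p.Prime) (H : Subgroup G) {a : G} (hap : a ^ p = 1)
    (ha : a ∉ H) {z : G} (hz : z ∈ Subgroup.zpowers a) (hzH : z ∈ H) : z = 1 := by
  by_contra hz1
  haveI : Fact p.Prime := ⟨hp⟩
  have ha1 : a ≠ 1 := fun h => ha (h ▸ H.one_mem)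
  have h1 : orderOf a = p := orderOf_eq_prime hap ha1
  have hzp : z ^ p = 1 := by
    obtain ⟨i, rfl⟩ := hz
    change (a ^ i) ^ p = 1
    rw [← zpow_natCast, zpow_comm, zpow_natCast, hap, one_zpow]
  have h2 : orderOf z = p := orderOf_eq_prime hzp hz1
  have hle : Subgroup.zpowers z ≤ Subgroup.zpowers a := Subgroup.zpowers_le.2 hz
  have heq : Subgroup.zpowers z = Subgroup.zpowers a :=
    Subgroup.eq_of_le_of_card_ge hle (by simp [Nat.card_zpowers, h1, h2])
  have h3 : a ∈ Subgroup.zpowers z := heq ▸ Subgroup.mem_zpowers a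
  exact ha ((Subgroup.zpowers_le.2 hzH) h3)

/-- An `a`-invariant subgroup of `H` is normalized by `a`. -/
theorem mem_normalizer_of_invariant (H : Subgroup G) [H.Normal] (Y : Subgroup H) (a : G)
    (hY : ∀ y ∈ Y, MulAut.conjNormal a y ∈ Y) :
    a ∈ Subgroup.normalizer ((Y.map H.subtype : Subgroup G) : Set G) := by
  rw [Subgroup.mem_normalizer_iff]
  intro h
  constructor
  · rintro ⟨y, hy, rfl⟩
    exact ⟨_, hY y hy, rfl⟩
  · rintro ⟨y, hy, hyh⟩
    let e : Y ≃* Y := restrictEquiv (MulAut.conjNormal a) Y hY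
    obtain ⟨z, hz⟩ := e.surjective ⟨y, hy⟩
    refine ⟨z, z.2, ?_⟩
    have h1 : (e z : H) = y := congrArg Subtype.val hz
    have h2 : a * ((z : H) : G) * a⁻¹ = (y : G) := congrArg Subtype.val h1
    have h3 : (y : G) = a * h * a⁻¹ := hyh
    rw [h3] at h2
    have h4 : a * ((z : H) : G) * a⁻¹ * a = a * h * a⁻¹ * a := by rw [h2]
    simpa using h4

/-- A subgroup of `H` whose image is normal in `G` is normal in `H`. -/
theorem normal_of_map_normal (H : Subgroup G) (Y : Subgroup H)
    (hY : (Y.map H.subtype : Subgroup G).Normal) : Y.Normal := by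
  constructor
  intro n hn g
  obtain ⟨y, hy, hyn⟩ := hY.conj_mem _ ⟨n, hn, rfl⟩ (g : G)
  have : y = g * n * g⁻¹ := Subtype.ext hyn
  rwa [← this]

end Aux

section Index

variable {G : Type u} [Group G] [Finite G]

/-- The index theorem. -/
theorem index_eq {p : ℕ} [hp : Fact p.Prime] (H : Subgroup G) [hHn : H.Normal] (hne : H ≠ ⊤)
    (hH : ∀ g, g ∉ H → g ^ p = 1) (hG : ¬ IsPGroup p G) : H.index = p := by
  classical
  by_contra hidx
  let π : G →* G ⧸ H := QuotientGroup.mk' H
  have hπ : Function.Surjective π := QuotientGroup.mk'_surjective H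
  have hexp : ∀ x : G ⧸ H, x ^ p = 1 := by
    intro x
    obtain ⟨g, rfl⟩ := hπ x
    by_cases hg : g ∈ H
    · have : π g = 1 := (QuotientGroup.eq_one_iff g).2 hg
      rw [this, one_pow]
    · rw [← map_pow, hH g hg, map_one]
  have hQp : IsPGroup p (G ⧸ H) := fun x => ⟨1, by simpa using hexp x⟩
  -- a prime `q ≠ p` dividing `|H|`
  obtain ⟨q, hq, hqp, hqd⟩ : ∃ q : ℕ, q.Prime ∧ q ≠ p ∧ q ∣ Nat.card H := by
    by_contra hcon
    push Not at hcon
    apply hG
    have hHp : IsPGroup p H := IsPGroup.of_card (Nat.eq_prime_pow_of_unique_prime_dvd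
      Nat.card_pos.ne' (fun {r} hr hrd => by_contra fun h => hcon r hr h hrd))
    intro g
    by_cases hg : g ∈ H
    · obtain ⟨k, hk⟩ := hHp ⟨g, hg⟩
      exact ⟨k, congrArg Subtype.val hk⟩
    · exact ⟨1, by simpa using hH g hg⟩
  haveI hq' : Fact q.Prime := ⟨hq⟩
  let Q : Sylow q H := default
  let T : Subgroup G := (Q : Subgroup H).map H.subtype
  have hTp : IsPGroup q T := Q.isPGroup'.map H.subtype
  have hTH : T ≤ H := Subgroup.map_subtype_le _
  have hTne : T ≠ ⊥ := by
    intro h
    have h1 := (Subgroup.map_eq_bot_iff_of_injective _ (Subgroup.subtype_injective _)).1 h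
    have h2 : q ∣ Nat.card (Q : Subgroup H) := Q.dvd_card_of_dvd_card hqd
    rw [h1, Subgroup.card_bot] at h2
    exact hq.one_lt.ne' (Nat.dvd_one.1 h2)
  let L : Subgroup G := Subgroup.normalizer (T : Set G)
  have hsup : L ⊔ H = ⊤ := Sylow.normalizer_sup_eq_top (N := H) Q
  let f : L →* G ⧸ H := π.comp L.subtype
  have hf : Function.Surjective f := by
    intro x
    obtain ⟨g, rfl⟩ := hπ x
    have hg : g ∈ ((L ⊔ H : Subgroup G) : Set G) := by rw [hsup]; trivial
    rw [Subgroup.mul_normal] at hg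
    obtain ⟨l, hl, h, hh, rfl⟩ := hg
    refine ⟨⟨l, hl⟩, ?_⟩
    have : π h = 1 := (QuotientGroup.eq_one_iff h).2 hh
    simp [f, this]
  let P : Sylow p L := default
  have hP : ∀ y : G ⧸ H, ∃ l ∈ (P : Subgroup L), f l = y := by
    have h1 : (P.mapSurjective hf : Subgroup (G ⧸ H)) = ⊤ :=
      ((P.mapSurjective hf).is_maximal' (Q := ⊤) (by
        exact hQp.of_injective (Subgroup.topEquiv (G := G ⧸ H)).toMonoidHom
          (Subgroup.topEquiv (G := G ⧸ H)).injective) le_top).symm
    intro y
    have h2 : y ∈ (P.mapSurjective hf : Subgroup (G ⧸ H)) := by rw [h1]; trivial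
    exact h2
  -- a central element of the quotient
  haveI hnt : Nontrivial (G ⧸ H) := QuotientGroup.nontrivial_iff.2 hne
  haveI := hQp.center_nontrivial
  obtain ⟨⟨z, hzc⟩, hz1⟩ := exists_ne (1 : Subgroup.center (G ⧸ H))
  have hz1' : z ≠ 1 := fun h => hz1 (Subtype.ext h)
  have hzord : orderOf z = p := orderOf_eq_prime (hexp z) hz1'
  haveI hzn : (Subgroup.zpowers z).Normal :=
    ⟨fun n hn g => by
      have h1 := Subgroup.mem_center_iff.1 ((Subgroup.zpowers_le.2 hzc) hn) g
      rw [h1]
      simpa using hn⟩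
  let M : Subgroup G := (Subgroup.zpowers z).comap π
  haveI hMn : M.Normal := hzn.comap π
  have hzne : Subgroup.zpowers z ≠ ⊤ := by
    intro h
    apply hidx
    have h1 : Nat.card (Subgroup.zpowers z) = Nat.card (G ⧸ H) := by
      rw [h, Subgroup.card_top]
    rw [Nat.card_zpowers, hzord] at h1
    rw [Subgroup.index, ← h1]
  obtain ⟨b, hb⟩ : ∃ b, b ∉ Subgroup.zpowers z := by
    by_contra hcon
    push Not at hcon
    exact hzne (eq_top_iff.2 fun x _ => hcon x)
  obtain ⟨a, haP, hab⟩ := hP b
  obtain ⟨x, hxP, hxz⟩ := hP z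
  let S : Subgroup G := (P : Subgroup L).map L.subtype ⊓ M
  have hHM : H ≤ M := by
    intro h hh
    have : π h = 1 := (QuotientGroup.eq_one_iff h).2 hh
    simp only [M, Subgroup.mem_comap, this]
    exact Subgroup.one_mem _
  have haM : (a : G) ∉ M := by
    intro h
    apply hb
    rw [← hab]
    exact h
  have hcopS : (Nat.card S).Coprime q := by
    have hSp : IsPGroup p S := (P.isPGroup'.map L.subtype).to_le inf_le_left
    obtain ⟨k, hk⟩ := (IsPGroup.iff_card).1 hSp
    rw [hk]
    exact Nat.Coprime.pow_left k ((Nat.coprime_primes hp.out hq).2 hqp.symm)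
  have key := centralizes (p := p) (r := q) M (fun g hg => hH g (fun h => hg (hHM h))) T S
    (a : G) haM inf_le_right (hTH.trans hHM)
    (by
      rw [Subgroup.mem_normalizer_iff]
      intro h
      constructor
      · rintro ⟨⟨l, hl, rfl⟩, hh2⟩
        refine ⟨⟨a * l * a⁻¹, P.1.mul_mem (P.1.mul_mem haP hl) (P.1.inv_mem haP), by simp⟩,
          hMn.conj_mem _ hh2 _⟩
      · rintro ⟨⟨l, hl, hlh⟩, hh2⟩
        have h1 : h = (a : G)⁻¹ * (l : G) * a := by
          have hlh' : (l : G) = a * h * (a : G)⁻¹ := hlh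
          rw [hlh']
          group
        refine ⟨⟨a⁻¹ * l * a, P.1.mul_mem (P.1.mul_mem (P.1.inv_mem haP) hl) haP, ?_⟩, ?_⟩
        · rw [h1]
          simp
        · have h2 := hMn.conj_mem _ hh2 ((a : G)⁻¹)
          simpa [mul_assoc] using h2)
    a.2
    (by
      intro s hs
      obtain ⟨l, -, rfl⟩ := hs.1
      exact l.2)
    hTp hcopS
  have hxS : (x : G) ∈ S := by
    refine ⟨⟨x, hxP, rfl⟩, ?_⟩
    change π x ∈ Subgroup.zpowers z
    have : π x = z := hxz
    rw [this]
    exact Subgroup.mem_zpowers z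
  have hxH : (x : G) ∉ H := by
    intro h
    apply hz1'
    rw [← hxz]
    exact (QuotientGroup.eq_one_iff _).2 h
  apply hTne
  rw [eq_bot_iff]
  intro y hy
  rw [Subgroup.mem_bot]
  have hcomm : Commute (x : G) y :=
    (Subgroup.mem_centralizer_iff.1 (key hxS) y hy).symm
  have hxy : (x : G) * y ∉ H := fun h =>
    hxH (by simpa using H.mul_mem h (H.inv_mem (hTH hy)))
  have h1 := hH _ hxy
  rw [hcomm.mul_pow, hH _ hxH, one_mul] at h1
  obtain ⟨k, hk⟩ := hTp ⟨y, hy⟩
  have hk' : y ^ q ^ k = 1 := congrArg Subtype.val hk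
  have hd1 := orderOf_dvd_of_pow_eq_one h1
  have hd2 := orderOf_dvd_of_pow_eq_one hk'
  have hcop' : p.Coprime (q ^ k) := Nat.Coprime.pow_right k ((Nat.coprime_primes hp.out hq).2 hqp.symm)
  exact orderOf_eq_one_iff.1 (Nat.dvd_one.1 (hcop' ▸ Nat.dvd_gcd hd1 hd2))

end Index

section Fitting

variable {G : Type u} [Group G] [Finite G]

/-- Existence of a nontrivial nilpotent normal subgroup of `H`. -/
theorem hughes_fitting_ne_bot {p : ℕ} (hp : p.Prime) (H : Subgroup G) [hHn : H.Normal]
    (hne : H ≠ ⊤) (hH : ∀ g, g ∉ H → g ^ p = 1)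
    (ihY : ∀ (Y : Subgroup H) (K : Subgroup G), K ≠ ⊤ → ∀ a ∈ K, a ∉ H → (∀ y ∈ Y, (y : G) ∈ K) →
      Group.IsNilpotent Y) :
    Group.IsNilpotent H ∨ fittingSubgroup H ≠ ⊥ := by
  classical
  by_cases h2 : ∃ q : ℕ, q.Prime ∧ q ≠ 2 ∧ q ∣ Nat.card H
  · obtain ⟨q, hq, hq2, hqd⟩ := h2
    haveI : Fact q.Prime := ⟨hq⟩
    let Q : Sylow q H := default
    obtain ⟨a, ha, haQ⟩ := exists_normalizing H hne Q
    let φ : H ≃* H := MulAut.conjNormal a
    have hφ : ∀ x : H, ((φ x : H) : G) = a * x * a⁻¹ := fun x => rfl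
    have hQφ : ∀ x ∈ (Q : Subgroup H), φ x ∈ (Q : Subgroup H) := by
      intro x hx
      have h1 := (Subgroup.mem_normalizer_iff.1 haQ (x : G)).1 ⟨x, hx, rfl⟩
      obtain ⟨y, hy, hyx⟩ := h1
      have : y = φ x := Subtype.ext hyx
      rwa [← this]
    have hQd : q ∣ Nat.card (Q : Subgroup H) := Q.dvd_card_of_dvd_card hqd
    -- the Thompson subgroup
    let J : Subgroup H := thompsonSubgroupOf q (Q : Subgroup H)
    have hJQ : J ≤ Q := by
      rintro _ ⟨k, -, rfl⟩
      exact k.2
    have hJφ : ∀ x ∈ J, φ x ∈ J := by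
      rintro _ ⟨k, hk, rfl⟩
      exact ⟨restrictEquiv φ Q hQφ k, thompson_apply_mem q _ hk, rfl⟩
    have hJne : J ≠ ⊥ := by
      intro h
      have h1 := (Subgroup.map_eq_bot_iff_of_injective _ (Subgroup.subtype_injective _)).1 h
      exact thompson_ne_bot q hQd h1
    -- the centre
    let Z : Subgroup H := (Q : Subgroup H) ⊓ Subgroup.centralizer (Q : Set H)
    have hZφ : ∀ x ∈ Z, φ x ∈ Z := by
      rintro x ⟨hx1, hx2⟩
      exact ⟨hQφ x hx1, centralizer_invariant φ _ hQφ x hx2⟩
    have hZne : Z ≠ ⊥ := by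
      have hnt : Nontrivial (Q : Subgroup H) := by
        obtain ⟨x, hx⟩ := exists_prime_orderOf_dvd_card' (G := (Q : Subgroup H)) q hQd
        refine ⟨⟨x, 1, ?_⟩⟩
        rintro rfl
        rw [orderOf_one] at hx
        exact hq.one_lt.ne hx
      have hc := Q.isPGroup'.center_nontrivial
      obtain ⟨⟨x, hx⟩, hx1⟩ := exists_ne (1 : Subgroup.center (Q : Subgroup H))
      intro h
      have hxmem : (x : H) ∈ Z := by
        refine ⟨x.2, ?_⟩
        change (x : H) ∈ Subgroup.centralizer ((Q : Subgroup H) : Set H)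
        rw [Subgroup.mem_centralizer_iff]
        intro y hy
        have := (Subgroup.mem_center_iff.1 hx) ⟨y, hy⟩
        exact congrArg Subtype.val this
      rw [h] at hxmem
      apply hx1
      apply Subtype.ext
      apply Subtype.ext
      exact hxmem
    have hbotof : ∀ Y : Subgroup H, Y.Normal → Group.IsNilpotent Y → Y ≠ ⊥ →
        fittingSubgroup H ≠ ⊥ := by
      intro Y hYn hYnil hYne hF
      apply hYne
      have := le_fittingSubgroup hYn hYnil
      rw [hF] at this
      exact le_bot_iff.1 this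
    let K1 : Subgroup G := Subgroup.normalizer ((J.map H.subtype : Subgroup G) : Set G)
    have haK1 : a ∈ K1 := mem_normalizer_of_invariant H J a hJφ
    by_cases hN : K1 = ⊤
    · right
      have hJn : J.Normal :=
        normal_of_map_normal H J (Subgroup.normalizer_eq_top_iff.1 hN)
      have hJp : IsPGroup q J := Q.isPGroup'.to_le hJQ
      exact hbotof J hJn (isPGroup_isNilpotent hJp) hJne
    let K2 : Subgroup G := Subgroup.normalizer ((Z.map H.subtype : Subgroup G) : Set G)
    have haK2 : a ∈ K2 := mem_normalizer_of_invariant H Z a hZφ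
    by_cases hC : K2 = ⊤
    · right
      have hZn : Z.Normal :=
        normal_of_map_normal H Z (Subgroup.normalizer_eq_top_iff.1 hC)
      have hZp : IsPGroup q Z := Q.isPGroup'.to_le inf_le_left
      exact hbotof Z hZn (isPGroup_isNilpotent hZp) hZne
    -- both are proper
    have hNJ := ihY (Subgroup.normalizer (J : Set H)) K1 hN a haK1 ha
      (fun y hy => Subgroup.le_normalizer_map H.subtype ⟨y, hy, rfl⟩)
    have hCZ := ihY (Subgroup.centralizer (Z : Set H)) K2 hC a haK2 ha
      (fun y hy => Subgroup.le_normalizer_map H.subtype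
        ⟨y, Subgroup.centralizer_le_normalizer (Z : Set H) hy, rfl⟩)
    have hcomp := thompsonCrit H q hq2 Q
      (hasNormalPComplement_of_nilpotent q hNJ)
      (hasNormalPComplement_of_nilpotent q hCZ)
    obtain ⟨N, hNn, hNc, hNq⟩ :=
      Cfsg.Agent.Lib.Transfer.Basic.hasNormalPComplement_iff_exists.1 hcomp
    have hNle : N ≤ pPrimeCore q H := le_pPrimeCore hNn hNc
    by_cases hCbot : pPrimeCore q H = ⊥
    · left
      have hNbot : N = ⊥ := le_bot_iff.1 (hCbot ▸ hNle)
      have hGq : IsPGroup q H := by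
        intro g
        obtain ⟨k, hk⟩ := hNq (g : H ⧸ N)
        refine ⟨k, ?_⟩
        have h1 : g ^ q ^ k ∈ N := (QuotientGroup.eq_one_iff _).1 (by simpa using hk)
        rw [hNbot] at h1
        exact h1
      exact hGq.isNilpotent
    · right
      have hCne : pPrimeCore q H ≠ ⊤ := by
        intro h
        have h1 : (Nat.card (pPrimeCore q H)).Coprime q := pPrimeCore_coprime
        rw [h, Subgroup.card_top] at h1
        have := Nat.dvd_gcd (dvd_refl q) hqd
        rw [Nat.Coprime.gcd_eq_one h1.symm] at this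
        exact hq.one_lt.ne' (Nat.dvd_one.1 this)
      obtain ⟨x0, hx0⟩ : ∃ x0 : H, x0 ∉ pPrimeCore q H := by
        by_contra hcon
        push Not at hcon
        exact hCne (eq_top_iff.2 fun x _ => hcon x)
      let CG : Subgroup G := (pPrimeCore q H).map H.subtype
      haveI : (pPrimeCore q H).Characteristic := pPrimeCore_characteristic
      haveI hCGn : CG.Normal :=
        Cfsg.Agent.Lib.Transfer.Basic.map_subtype_normal_of_characteristic H (pPrimeCore q H)
      let K3 : Subgroup G := Subgroup.zpowers a ⊔ CG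
      have hK3 : K3 ≠ ⊤ := by
        intro h
        have hx : (x0 : G) ∈ (K3 : Set G) := by rw [h]; trivial
        rw [Subgroup.mul_normal] at hx
        obtain ⟨z, hz, c, hc, hzc⟩ := hx
        replace hzc : z * c = (x0 : G) := hzc
        have hc' : c ∈ H := Subgroup.map_subtype_le _ hc
        have hzH : z ∈ H := by
          have h1 : z = (x0 : G) * c⁻¹ := by
            rw [← hzc]
            group
          rw [h1]
          exact H.mul_mem x0.2 (H.inv_mem hc')
        have hz1 : z = 1 := eq_one_of_mem_zpowers hp H (hH a ha) ha hz hzH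
        rw [hz1, one_mul] at hzc
        obtain ⟨c', hc'', rfl⟩ := hc
        have : c' = x0 := Subtype.ext hzc
        exact hx0 (this ▸ hc'')
      have hCnil := ihY (pPrimeCore q H) K3 hK3 a
        (le_sup_left (a := Subgroup.zpowers a) (Subgroup.mem_zpowers a)) ha
        (fun y hy => le_sup_right (a := Subgroup.zpowers a) ⟨y, hy, rfl⟩)
      exact hbotof _ (pPrimeCore_normal q H) hCnil hCbot
  · left
    push Not at h2
    have hprime : ∀ {r : ℕ}, r.Prime → r ∣ Nat.card H → r = 2 := by
      intro r hr hrd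
      by_contra hne
      exact h2 r hr hne hrd
    have h2G : IsPGroup 2 H :=
      IsPGroup.of_card (Nat.eq_prime_pow_of_unique_prime_dvd Nat.card_pos.ne' hprime)
    haveI : Fact (Nat.Prime 2) := ⟨Nat.prime_two⟩
    exact h2G.isNilpotent

/-- **Kegel's theorem**. -/
theorem nilpotent_of_hughes {p : ℕ} (hp : p.Prime) : ∀ (n : ℕ) (G : Type u) [Group G] [Finite G]
    (H : Subgroup G) [H.Normal], H ≠ ⊤ → (∀ g, g ∉ H → g ^ p = 1) → Nat.card G = n →
    Group.IsNilpotent H := by
  intro n
  induction n using Nat.strong_induction_on with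
  | _ n ih =>
  intro G _ _ H hHn hne hH hn
  classical
  haveI : Fact p.Prime := ⟨hp⟩
  have ihsub : ∀ K : Subgroup G, K ≠ ⊤ → ∀ a ∈ K, a ∉ H → Group.IsNilpotent (H.subgroupOf K) := by
    intro K hK a haK haH
    have hlt : Nat.card K < n := by
      rw [← hn]
      refine lt_of_le_of_ne (Subgroup.card_le_card_group K) ?_
      intro heq
      exact hK (Subgroup.card_eq_iff_eq_top K |>.1 heq)
    refine ih _ hlt K (H.subgroupOf K) ?_ ?_ rfl
    · intro h
      apply haH
      have : (⟨a, haK⟩ : K) ∈ H.subgroupOf K := by rw [h]; trivial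
      exact Subgroup.mem_subgroupOf.1 this
    · intro g hg
      exact Subtype.ext (by
        have := hH g (fun h => hg (Subgroup.mem_subgroupOf.2 h))
        simpa using this)
  have ihY : ∀ (Y : Subgroup H) (K : Subgroup G), K ≠ ⊤ → ∀ a ∈ K, a ∉ H →
      (∀ y ∈ Y, (y : G) ∈ K) → Group.IsNilpotent Y := by
    intro Y K hK a haK haH hYK
    haveI := ihsub K hK a haK haH
    let f : Y →* H.subgroupOf K :=
      { toFun := fun y => ⟨⟨y.1, hYK y.1 y.2⟩, Subgroup.mem_subgroupOf.2 y.1.2⟩
        map_one' := rfl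
        map_mul' := fun _ _ => rfl }
    refine isNilpotent_of_injective f ?_
    intro y y' h
    have h1 : ((f y : H.subgroupOf K) : K) = f y' := congrArg Subtype.val h
    have h2 : (((f y : H.subgroupOf K) : K) : G) = ((f y' : H.subgroupOf K) : K) :=
      congrArg Subtype.val h1
    exact Subtype.ext (Subtype.ext h2)
  rcases hughes_fitting_ne_bot hp H hne hH ihY with h | hF
  · exact h
  -- the quotient
  let FG : Subgroup G := (fittingSubgroup H).map H.subtype
  haveI : (fittingSubgroup H).Characteristic := fittingSubgroup_characteristic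
  haveI hFGn : FG.Normal :=
    Cfsg.Agent.Lib.Transfer.Basic.map_subtype_normal_of_characteristic H (fittingSubgroup H)
  let π : G →* G ⧸ FG := QuotientGroup.mk' FG
  have hπ : Function.Surjective π := QuotientGroup.mk'_surjective FG
  let Hb : Subgroup (G ⧸ FG) := H.map π
  haveI hHbn : Hb.Normal := hHn.map π hπ
  have hFGle : FG ≤ H := Subgroup.map_subtype_le _
  have hmem : ∀ g, π g ∈ Hb → g ∈ H := by
    rintro g ⟨h, hh, heq⟩
    have h1 : h⁻¹ * g ∈ FG := QuotientGroup.eq.1 heq
    simpa using H.mul_mem hh (hFGle h1)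
  have hHb : Hb ≠ ⊤ := by
    intro htop
    apply hne
    rw [eq_top_iff]
    intro g _
    apply hmem
    rw [htop]
    trivial
  have hHbp : ∀ x, x ∉ Hb → x ^ p = 1 := by
    intro x hx
    obtain ⟨g, rfl⟩ := hπ x
    have : g ∉ H := fun h => hx ⟨g, h, rfl⟩
    rw [← map_pow, hH g this, map_one]
  have hFGne : FG ≠ ⊥ := by
    intro h
    exact hF ((Subgroup.map_eq_bot_iff_of_injective _ (Subgroup.subtype_injective _)).1 h)
  have hlt : Nat.card (G ⧸ FG) < n := by
    rw [← hn]
    have h1 : Nat.card (G ⧸ FG) * Nat.card FG = Nat.card G := by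
      rw [mul_comm]; exact Subgroup.card_mul_index _
    have h2 : 1 < Nat.card FG := (Subgroup.one_lt_card_iff_ne_bot _).2 hFGne
    rw [← h1]
    exact lt_mul_of_one_lt_right Nat.card_pos h2
  have hbar : Group.IsNilpotent Hb := ih _ hlt _ Hb hHb hHbp rfl
  rw [← fittingSubgroup_eq_top_iff]
  apply eq_top_of_forall_sylow_le
  intro s _
  let Q : Sylow s H := default
  refine ⟨Q, ?_⟩
  let C : Subgroup H := ⨆ r : {r : Nat.Primes // (r : ℕ) ≠ s}, pCore ((r.1 : Nat.Primes) : ℕ) H
  have hCcent : (Q : Subgroup H) ≤ Subgroup.centralizer (C : Set H) := by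
    rw [Subgroup.le_centralizer_iff]
    apply iSup_le
    rintro ⟨r, hr⟩
    haveI : Fact ((r : ℕ)).Prime := ⟨r.2⟩
    rw [← Subgroup.le_centralizer_iff]
    exact le_centralizer_pCore (p := p) hr H hne hH Q
  have hCF : C ≤ fittingSubgroup H := by
    apply iSup_le
    rintro ⟨r, hr⟩
    haveI : Fact ((r : ℕ)).Prime := ⟨r.2⟩
    exact pCore_le_fittingSubgroup (r : ℕ)
  haveI hFnil : Group.IsNilpotent (fittingSubgroup H) := fittingSubgroup_isNilpotent
  have hCnil : Group.IsNilpotent C :=
    isNilpotent_of_injective (Subgroup.inclusion hCF) (Subgroup.inclusion_injective hCF)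
  have hTnil := sup_nilpotent_of_commute (Q : Subgroup H) C Q.isPGroup'.isNilpotent hCnil hCcent
  have hsup : (Q : Subgroup H) ⊔ fittingSubgroup H = (Q : Subgroup H) ⊔ C := by
    apply le_antisymm
    · apply sup_le le_sup_left
      rw [fittingSubgroup_eq_iSup_pCore]
      apply iSup_le
      intro r
      haveI : Fact ((r : ℕ)).Prime := ⟨r.2⟩
      by_cases hr : (r : ℕ) = s
      · subst hr
        exact (pCore_le_sylow Q).trans le_sup_left
      · exact le_sup_of_le_right (le_iSup (fun r : {r : Nat.Primes // (r : ℕ) ≠ s} =>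
          pCore ((r.1 : Nat.Primes) : ℕ) H) ⟨r, hr⟩)
    · exact sup_le le_sup_left (le_sup_of_le_right hCF)
  have hnorm : ((Q : Subgroup H) ⊔ fittingSubgroup H).Normal := by
    let f : H →* Hb := π.subgroupMap H
    have hf : Function.Surjective f := π.subgroupMap_surjective H
    let Q' : Sylow s Hb := Q.mapSurjective (f := f) hf
    have h1 : (Q' : Subgroup Hb).Normal := by
      have q' := (Group.isNilpotent_of_finite_tfae (G := Hb)).out 0 3
      exact q'.1 hbar s ‹_› Q'
    have h2 : (Q' : Subgroup Hb) = (Q : Subgroup H).map f := rfl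
    rw [h2] at h1
    have h3 := h1.comap f
    rw [Subgroup.comap_map_eq] at h3
    have hker : f.ker = fittingSubgroup H := by
      ext x
      rw [MonoidHom.mem_ker]
      constructor
      · intro hx
        have h4 : π x = 1 := congrArg Subtype.val hx
        have h5 : (x : G) ∈ FG := (QuotientGroup.eq_one_iff _).1 h4
        obtain ⟨y, hy, hyx⟩ := h5
        have : y = x := Subtype.ext hyx
        rwa [← this]
      · intro hx
        apply Subtype.ext
        exact (QuotientGroup.eq_one_iff _).2 ⟨x, hx, rfl⟩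
    rw [hker] at h3
    exact h3
  have hfin := le_fittingSubgroup hnorm (by rw [hsup]; exact hTnil)
  exact le_sup_left.trans hfin

end Fitting

end Cfsg.Agent.Lib.Kegel.Main
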